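import Groth.Agent.CohBCLib.BC
import Groth.Agent.CohBCLib.Univ
import Groth.Agent.QCohLib.Push
import Groth.Prelude.Def_Curv2

/-!
# Cohomology along affine morphisms over the base ring
-/

set_option autoImplicit false
set_option maxHeartbeats 1000000
universe u

open CategoryTheory CategoryTheory.Limits AlgebraicGeometry TopologicalSpace Opposite HomologicalComplex
open CohBCLib
open RpushLib (secFun)

noncomputable section

namespace PushLinLib

variable {A : Type u} [CommRing A] {X Y : Scheme.{u}} {p : X ⟶ Spec (CommRingCat.of A)}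
  {q : Y ⟶ Spec (CommRingCat.of A)} (g : X ⟶ Y) (hg : g ≫ q = p) (G : X.Modules) {ι : Type u} (U : ι → Y.Opens)

include hg in
theorem secA_app (V : Y.Opens) (W : X.Opens) (h : W ≤ g ⁻¹ᵁ V) (a : A) :
    X.presheaf.map (homOfLE h).op (g.app V (secA q V a)) = secA p W a := by
  subst hg
  have e : q.appLE ⊤ V le_top ≫ g.appLE V W h = (g ≫ q).appLE ⊤ W le_top :=
    Scheme.Hom.appLE_comp_appLE _ _ _ _ _ _ _
  exact congr($(e) ((Scheme.ΓSpecIso (CommRingCat.of A)).inv a))

theorem capX_eq {n : ℕ} (J : Fin n → ι) : capX (preU g U) J = g ⁻¹ᵁ capX U J := by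
  ext x
  change x ∈ capX (preU g U) J ↔ g.base x ∈ capX U J
  rw [mem_capX, mem_capX]
  rfl

/-- Sections of a direct image. -/
def secEquiv (hg : g ≫ q = p) (V : Y.Opens) (W : X.Opens) (h : W = g ⁻¹ᵁ V) :
    (secFun V (secA q V)).obj ((Coh.push g).obj G) ≃ₗ[A] (secFun W (secA p W)).obj G where
  toFun s := G.presheaf.map (homOfLE h.le).op (show Γ(G, g ⁻¹ᵁ V) from s)
  invFun s := G.presheaf.map (homOfLE h.ge).op (show Γ(G, W) from s)
  map_add' _ _ := map_add (G.presheaf.map (homOfLE h.le).op).hom _ _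
  map_smul' a s := by
    refine (Scheme.Modules.map_smul G _ (g.app V (secA q V a)) (show Γ(G, g ⁻¹ᵁ V) from s)).trans ?_
    exact congrArg (fun r : Γ(X, W) => r • G.presheaf.map (homOfLE h.le).op (show Γ(G, g ⁻¹ᵁ V) from s))
      (secA_app g hg V W h.le a)
  left_inv s := by subst h; exact (QCohLib.map_map' G _ _ _).trans (ConcreteCategory.congr_hom (G.presheaf.map_id _) _)
  right_inv s := by subst h; exact (QCohLib.map_map' G _ _ _).trans (ConcreteCategory.congr_hom (G.presheaf.map_id _) _)

/-- The Čech complexes agree. -/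
def cechPushIso (hg : g ≫ q = p) : (cechA q U).obj ((Coh.push g).obj G) ≅ (cechA p (preU g U)).obj G :=
  HomologicalComplex.Hom.isoOfComponents
    (fun _ => (LinearEquiv.piCongrRight fun J => secEquiv g G hg (capX U J) (capX (preU g U) J)
      (capX_eq g U J)).toModuleIso)
    (fun i j h => by
      obtain rfl : i + 1 = j := h
      refine (congrArg (_ ≫ ·) (CochainComplex.of_d (fun n => ModuleCat.of A (CochA p (preU g U) G n))
        (fun n => ModuleCat.ofHom (ddA p (preU g U) G n)) i)).trans (Eq.trans ?_ (congrArg (· ≫ _)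
        (CochainComplex.of_d (fun n => ModuleCat.of A (CochA q U ((Coh.push g).obj G) n))
        (fun n => ModuleCat.ofHom (ddA q U ((Coh.push g).obj G) n)) i)).symm)
      refine ModuleCat.hom_ext (LinearMap.ext fun c => funext fun J => ?_)
      let c' : CochA q U ((Coh.push g).obj G) i := c
      change (∑ k : Fin (i + 2), ((-1 : ℤ) ^ (k : ℕ)) • (rsA p G (CechLib.cap_comp_le (X := X.toTopCat) (preU g U) J k.succAbove)).comp
          (LinearMap.proj (J ∘ k.succAbove)))
            (fun J => secEquiv g G hg (capX U J) (capX (preU g U) J) (capX_eq g U J) (c' J)) =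
        secEquiv g G hg (capX U J) (capX (preU g U) J) (capX_eq g U J)
          ((∑ k : Fin (i + 2), ((-1 : ℤ) ^ (k : ℕ)) • (rsA q ((Coh.push g).obj G) (CechLib.cap_comp_le (X := Y.toTopCat) U J k.succAbove)).comp
            (LinearMap.proj (J ∘ k.succAbove))) c')
      simp only [LinearMap.sum_apply, LinearMap.smul_apply, LinearMap.comp_apply, LinearMap.proj_apply, map_sum, map_zsmul]
      refine Finset.sum_congr rfl fun k _ => congrArg _ ?_
      refine (QCohLib.map_map' G _ _ _).trans (Eq.symm ?_)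
      exact QCohLib.map_map' G (homOfLE (capX_eq g U J).le)
        (homOfLE (g.preimage_mono (CechLib.cap_comp_le (X := Y.toTopCat) U J k.succAbove)))
        (show Γ(G, g ⁻¹ᵁ capX U (J ∘ k.succAbove)) from c' (J ∘ k.succAbove)))

/-- `H^n(X, G) = H^n(Y, g_* G)`, linearly over the base. -/
theorem nonempty_HH_push_linear (hg : g ≫ q = p) [IsAffineHom g] [Coh.IsQCoh G] [QuasiCompact q] [IsSeparated q]
    (n : ℕ) :
    letI := Module.compHom (Coh.HH X G n) (Coh.toGlobal p)
    letI := Module.compHom (Coh.HH Y ((Coh.push g).obj G) n) (Coh.toGlobal q)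
    Nonempty (Coh.HH X G n ≃ₗ[A] Coh.HH Y ((Coh.push g).obj G) n) := by
  obtain ⟨ι, _, U, hcov, haff, -⟩ := exists_good_cover q
  haveI : Coh.IsQCoh ((Coh.push g).obj G) := QCohLib.isQCoh_pushforward g G
  have haff' : ∀ (n : ℕ) (J : Fin (n + 1) → ι), IsAffineOpen (capX (preU g U) J) := fun n J => by
    rw [capX_eq g U J]; exact (haff n J).preimage g
  exact ⟨((hCmp p (preU g U) haff' (iSup_preU U hcov) n G).symm ≪≫
    ((HomologicalComplex.homologyFunctor _ _ n).mapIso (cechPushIso g G U hg)).symm ≪≫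
    hCmp q U haff hcov n ((Coh.push g).obj G)).toLinearEquiv⟩

/-- Euler characteristics along affine morphisms. -/
theorem euler_push (k : Type u) [Field k] {X Y : Scheme.{u}} [X.Over (Spec (CommRingCat.of k))]
    [Y.Over (Spec (CommRingCat.of k))] [QuasiCompact (Y ↘ Spec (CommRingCat.of k))]
    [IsSeparated (Y ↘ Spec (CommRingCat.of k))] (g : X ⟶ Y) [IsAffineHom g]
    (hg : g ≫ (Y ↘ Spec (CommRingCat.of k)) = X ↘ Spec (CommRingCat.of k)) (G : X.Modules) [Coh.IsQCoh G] :
    (∀ n, Module.finrank k (Coh.HH X G n) = Module.finrank k (Coh.HH Y ((Coh.push g).obj G) n)) ∧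
      Curv2.euler k X G = Curv2.euler k Y ((Coh.push g).obj G) := by
  have h : ∀ n, Module.finrank k (Coh.HH X G n) = Module.finrank k (Coh.HH Y ((Coh.push g).obj G) n) := fun n =>
    (nonempty_HH_push_linear g G hg n).elim fun e => e.finrank_eq
  refine ⟨h, ?_⟩
  unfold Curv2.euler
  exact finsum_congr fun n => by rw [h n]

end PushLinLib

end
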